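import Mathlib
import Groth.Agent.Lib.Helper72.GrpdTranslate
import Groth.Agent.Lib.Helper19.Sm.SmoothFiberPointwise

/-!
# Homogeneity of the smooth locus of the source map of a groupoid scheme over a field

For a groupoid scheme `(U, R, s, t, c)` with `U` the spectrum of a field, the smooth locus of `s`
is stable under right translation; hence it is empty or everything.
-/

set_option autoImplicit false
universe u

open CategoryTheory CategoryTheory.Limits AlgebraicGeometry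
open Groth.Agent.Lib.Helper72.GrpdPts

namespace Groth.Agent.Lib.Helper19.Grpd

variable {S : Scheme.{u}} (G : Grpd.GroupoidScheme S)

/-- the inverse of a groupoid scheme is an involution -/
theorem i_i : G.i ≫ G.i = 𝟙 G.R := by
  let α : G.R ⟶ G.R := 𝟙 G.R
  have h1 : (α ≫ G.i) ≫ G.s = α ≫ G.t := by rw [Category.assoc, G.i_s]
  have h2 : ((α ≫ G.i) ≫ G.i) ≫ G.s = mul G (α ≫ G.i) α h1 ≫ G.t := by
    rw [mul_t, Category.assoc, G.i_s]
  have e1 := i_mul_mul G (α ≫ G.i) α h1 h2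
  have h3 : ((α ≫ G.i) ≫ G.i) ≫ G.s = (α ≫ G.s ≫ G.e) ≫ G.t := by
    rw [h2, mul_t]
    simp only [Category.assoc, G.e_t, Category.comp_id, G.i_t]
  have e2 : mul G ((α ≫ G.i) ≫ G.i) (mul G (α ≫ G.i) α h1) h2 =
      mul G ((α ≫ G.i) ≫ G.i) (α ≫ G.s ≫ G.e) h3 :=
    mul_congr G rfl (i_mul G α h1) h2 h3
  have e3 : mul G ((α ≫ G.i) ≫ G.i) (α ≫ G.s ≫ G.e) h3 = (α ≫ G.i) ≫ G.i := by
    apply mul_e
    rw [Category.assoc (α ≫ G.i), ← Category.assoc G.i, G.i_s, Category.assoc α, ← Category.assoc G.i,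
      G.i_t]
  have : (α ≫ G.i) ≫ G.i = α := by rw [← e3, ← e2, e1]
  simpa [α] using this

instance : IsIso G.i := ⟨G.i, i_i G, i_i G⟩

section Homogeneity

variable [LocallyOfFinitePresentation G.s] [Subsingleton G.U] [IsIntegral G.U]

/-- The smooth locus of `s` is stable under right translation. -/
theorem mem_smoothLocus_trans_iff (z : ↥(pullback G.s (𝟙 G.R ≫ G.t))) :
    trans G (𝟙 G.R) z ∈ G.s.smoothLocus ↔ pullback.fst G.s (𝟙 G.R ≫ G.t) z ∈ G.s.smoothLocus := by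
  have sqA : IsPullback (pullback.fst G.s (𝟙 G.R ≫ G.t)) (pullback.snd G.s (𝟙 G.R ≫ G.t)) G.s
      (𝟙 G.R ≫ G.t) := IsPullback.of_hasPullback _ _
  have sqB : IsPullback (trans G (𝟙 G.R)) (pullback.snd G.s (𝟙 G.R ≫ G.t)) G.s
      (𝟙 G.R ≫ G.s) := by
    refine IsPullback.of_iso_pullback ⟨trans_s G (𝟙 G.R)⟩ (asIso (transHom G (𝟙 G.R))) ?_ ?_
    · exact transHom_fst G _
    · exact transHom_snd G _
  haveI : LocallyOfFinitePresentation (pullback.snd G.s (𝟙 G.R ≫ G.t)) := inferInstance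
  have eA := smoothLocus_eq_preimage_of_isPullback G.s (𝟙 G.R ≫ G.t)
    (pullback.snd G.s (𝟙 G.R ≫ G.t)) (pullback.fst G.s (𝟙 G.R ≫ G.t)) sqA (Or.inl inferInstance)
  have eB := smoothLocus_eq_preimage_of_isPullback G.s (𝟙 G.R ≫ G.s)
    (pullback.snd G.s (𝟙 G.R ≫ G.t)) (trans G (𝟙 G.R)) sqB (Or.inl inferInstance)
  have hA : z ∈ (pullback.snd G.s (𝟙 G.R ≫ G.t)).smoothLocus ↔
      pullback.fst G.s (𝟙 G.R ≫ G.t) z ∈ G.s.smoothLocus := by rw [eA]; rfl
  have hB : z ∈ (pullback.snd G.s (𝟙 G.R ≫ G.t)).smoothLocus ↔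
      trans G (𝟙 G.R) z ∈ G.s.smoothLocus := by rw [eB]; rfl
  exact hB.symm.trans hA

/-- The smooth locus of `s` is empty or everything. -/
theorem smooth_s_of_mem_smoothLocus (r₀ : G.R) (h₀ : r₀ ∈ G.s.smoothLocus) : Smooth G.s := by
  rw [← Scheme.Hom.smoothLocus_eq_top_iff]
  ext r
  simp only [TopologicalSpace.Opens.coe_top, Set.mem_univ, iff_true, SetLike.mem_coe]
  obtain ⟨w, hw1, hw2⟩ := Scheme.Pullback.exists_preimage_pullback (f := G.t) (g := G.t) r₀ r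
    (Subsingleton.elim _ _)
  -- the morphism `(α, γ) ↦ (α, α⁻¹ ∘ γ)`
  let a : pullback G.t G.t ⟶ G.R := pullback.fst G.t G.t
  let b : pullback G.t G.t ⟶ G.R := pullback.snd G.t G.t
  have hab : (a ≫ G.i) ≫ G.s = b ≫ G.t := by
    rw [Category.assoc, G.i_s]; exact pullback.condition
  have hβ : a ≫ G.s = mul G (a ≫ G.i) b hab ≫ (𝟙 G.R ≫ G.t) := by
    rw [Category.id_comp, mul_t, Category.assoc, G.i_t]
  let Θ : pullback G.t G.t ⟶ pullback G.s (𝟙 G.R ≫ G.t) :=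
    pullback.lift a (mul G (a ≫ G.i) b hab) hβ
  have hΘ1 : Θ ≫ pullback.fst G.s (𝟙 G.R ≫ G.t) = a := pullback.lift_fst _ _ _
  have hΘ2 : Θ ≫ trans G (𝟙 G.R) = b := by
    have hcond : (Θ ≫ pullback.fst G.s (𝟙 G.R ≫ G.t)) ≫ G.s =
        (Θ ≫ pullback.snd G.s (𝟙 G.R ≫ G.t) ≫ 𝟙 G.R) ≫ G.t := by
      rw [Category.assoc, Category.assoc, trans_cond]
    rw [Groth.Agent.Lib.Helper72.GrpdPts.trans, comp_mul G Θ _ _ (trans_cond G (𝟙 G.R)) hcond]
    have e2 : Θ ≫ pullback.snd G.s (𝟙 G.R ≫ G.t) ≫ 𝟙 G.R = mul G (a ≫ G.i) b hab := by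
      rw [Category.comp_id]; exact pullback.lift_snd _ _ _
    have h' : a ≫ G.s = mul G (a ≫ G.i) b hab ≫ G.t := by
      rw [mul_t, Category.assoc, G.i_t]
    exact (mul_congr G hΘ1 e2 hcond h').trans (mul_i_mul G a b hab h')
  have key := (mem_smoothLocus_trans_iff G (Θ w)).mpr (by
    rw [← Scheme.Hom.comp_apply, hΘ1]
    show pullback.fst G.t G.t w ∈ _
    rw [hw1]; exact h₀)
  rw [← Scheme.Hom.comp_apply, hΘ2] at key
  have : b w = r := hw2
  rw [this] at key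
  exact key

end Homogeneity

end Groth.Agent.Lib.Helper19.Grpd
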