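import Mathlib
import Groth.Agent.Lib.Helper72.GrpdPts
import Groth.Agent.Lib.Helper19.Cartier.Main

/-!
# Invariant derivations on the local ring at the identity of a groupoid scheme over a field

For a groupoid scheme `(U, R, s, t, c)` with `U ≅ Spec k`, let `A = 𝒪_{R,e(u)}`. Every tangent
vector `φ : A → k[ε]` at `e(u)` relative to `s` gives a derivation `D` of `A` with
`ε_A (D a) = snd (φ a)` (left translation by the tangent vector). In characteristic zero this forces
`A` to be a domain (Cartier's argument).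
-/

set_option autoImplicit false
universe u

open CategoryTheory CategoryTheory.Limits AlgebraicGeometry IsLocalRing
open Groth.Agent.Lib.Helper72.GrpdPts
open Groth.Agent.Lib.Helper19.Cartier (mapDN fstDN inlDN KE fstK sKE derivOfHom tangentHom
  exists_hom_of_closedPoint hom_eq_of_SpecMap_comp_fromSpecStalk)

namespace Groth.Agent.Lib.Helper19.Grpd

variable {S : Scheme.{u}} (G : Grpd.GroupoidScheme S) {k : Type u} [Field k]
  (eU : G.U ≅ Spec (CommRingCat.of k))

/-- the identity arrow as a `k`-point -/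
noncomputable def e₀ : Spec (CommRingCat.of k) ⟶ G.R := eU.inv ≫ G.e

/-- the identity point of `R` -/
noncomputable def unitPt : G.R := (e₀ G eU) (closedPoint k)

/-- the local ring at the identity point -/
noncomputable abbrev A : CommRingCat.{u} := G.R.presheaf.stalk (unitPt G eU)

/-- `Spec A → R` -/
noncomputable abbrev ι : Spec (A G eU) ⟶ G.R := G.R.fromSpecStalk (unitPt G eU)

/-- the `s`-structure map `k → A` -/
noncomputable def sA : CommRingCat.of k ⟶ A G eU := Spec.preimage (ι G eU ≫ G.s ≫ eU.hom)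

/-- the `t`-structure map `k → A` -/
noncomputable def tA : CommRingCat.of k ⟶ A G eU := Spec.preimage (ι G eU ≫ G.t ≫ eU.hom)

lemma SpecMap_sA : Spec.map (sA G eU) = ι G eU ≫ G.s ≫ eU.hom := Spec.map_preimage _

lemma SpecMap_tA : Spec.map (tA G eU) = ι G eU ≫ G.t ≫ eU.hom := Spec.map_preimage _

lemma exists_εA : ∃ εA : A G eU ⟶ CommRingCat.of k, IsLocalHom εA.hom ∧
    Spec.map εA ≫ ι G eU = e₀ G eU :=
  exists_hom_of_closedPoint (R := CommRingCat.of k) (e₀ G eU) (unitPt G eU) rfl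

/-- the augmentation `A → k` -/
noncomputable def εA : A G eU ⟶ CommRingCat.of k := (exists_εA G eU).choose

instance : IsLocalHom (εA G eU).hom := (exists_εA G eU).choose_spec.1

lemma SpecMap_εA_ι : Spec.map (εA G eU) ≫ ι G eU = e₀ G eU := (exists_εA G eU).choose_spec.2

lemma sA_εA : sA G eU ≫ εA G eU = 𝟙 _ := by
  apply Spec.map_injective
  rw [Spec.map_comp, SpecMap_sA, ← Category.assoc, SpecMap_εA_ι, Spec.map_id, e₀]
  simp only [Category.assoc]
  rw [← Category.assoc G.e, G.e_s, Category.id_comp, Iso.inv_hom_id]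

lemma tA_εA : tA G eU ≫ εA G eU = 𝟙 _ := by
  apply Spec.map_injective
  rw [Spec.map_comp, SpecMap_tA, ← Category.assoc, SpecMap_εA_ι, Spec.map_id, e₀]
  simp only [Category.assoc]
  rw [← Category.assoc G.e, G.e_t, Category.id_comp, Iso.inv_hom_id]

lemma εA_sA_apply (c : k) : (εA G eU).hom ((sA G eU).hom c) = c := by
  have := congrArg (fun f => f.hom c) (sA_εA G eU)
  simpa using this

/-- the `R`-valued point of the arrow scheme attached to a ring hom `A → R` -/
noncomputable def P {R : CommRingCat.{u}} (h : A G eU ⟶ R) : Spec R ⟶ G.R :=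
  Spec.map h ≫ ι G eU

lemma P_s {R : CommRingCat.{u}} (h : A G eU ⟶ R) :
    P G eU h ≫ G.s = Spec.map (sA G eU ≫ h) ≫ eU.inv := by
  rw [P, Spec.map_comp, SpecMap_sA]
  simp only [Category.assoc, Iso.hom_inv_id, Category.comp_id]

lemma P_t {R : CommRingCat.{u}} (h : A G eU ⟶ R) :
    P G eU h ≫ G.t = Spec.map (tA G eU ≫ h) ≫ eU.inv := by
  rw [P, Spec.map_comp, SpecMap_tA]
  simp only [Category.assoc, Iso.hom_inv_id, Category.comp_id]

lemma comp_P {R R' : CommRingCat.{u}} (a : R ⟶ R') (h : A G eU ⟶ R) :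
    Spec.map a ≫ P G eU h = P G eU (h ≫ a) := by
  rw [P, P, Spec.map_comp, Category.assoc]

lemma P_injective {R : CommRingCat.{u}} {h₁ h₂ : A G eU ⟶ R} (e : P G eU h₁ = P G eU h₂) :
    h₁ = h₂ :=
  hom_eq_of_SpecMap_comp_fromSpecStalk (unitPt G eU) e

lemma P_εA_comp {R : CommRingCat.{u}} (x : CommRingCat.of k ⟶ R) :
    P G eU (εA G eU ≫ x) = Spec.map x ≫ eU.inv ≫ G.e := by
  rw [P, Spec.map_comp, Category.assoc, SpecMap_εA_ι, e₀]

/-- dual numbers over `A` -/
noncomputable abbrev AE : CommRingCat.{u} := CommRingCat.of (DualNumber (A G eU))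

/-- `A → A[ε]` -/
noncomputable def inlA : A G eU ⟶ AE G eU := CommRingCat.ofHom inlDN

/-- `A[ε] → A` -/
noncomputable def fstA : AE G eU ⟶ A G eU := CommRingCat.ofHom fstDN

/-- `A[ε] → k[ε]` -/
noncomputable def mapε : AE G eU ⟶ KE k := CommRingCat.ofHom (mapDN (εA G eU).hom)

/-- `k[ε] → A[ε]` via the `t`-structure -/
noncomputable def tE : KE k ⟶ AE G eU := CommRingCat.ofHom (mapDN (tA G eU).hom)

lemma inlA_fstA : inlA G eU ≫ fstA G eU = 𝟙 _ := by
  apply CommRingCat.hom_ext
  exact Cartier.fstDN_comp_inlDN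

lemma sKE_tE : sKE k ≫ tE G eU = tA G eU ≫ inlA G eU := by
  apply CommRingCat.hom_ext
  exact Cartier.mapDN_comp_inlDN (tA G eU).hom

lemma tE_fstA : tE G eU ≫ fstA G eU = fstK k ≫ tA G eU := by
  apply CommRingCat.hom_ext
  exact Cartier.fstDN_comp_mapDN (tA G eU).hom

lemma tE_mapε : tE G eU ≫ mapε G eU = 𝟙 _ := by
  apply CommRingCat.hom_ext
  change (mapDN (εA G eU).hom).comp (mapDN (tA G eU).hom) = RingHom.id _
  rw [Cartier.mapDN_comp]
  have : (εA G eU).hom.comp (tA G eU).hom = RingHom.id _ := by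
    ext c
    have := congrArg (fun f => f.hom c) (tA_εA G eU)
    simpa using this
  rw [this, Cartier.mapDN_id]

lemma inlA_mapε : inlA G eU ≫ mapε G eU = εA G eU ≫ sKE k := by
  apply CommRingCat.hom_ext
  exact Cartier.mapDN_comp_inlDN (εA G eU).hom

/-- the augmentation `A[ε] → k` -/
noncomputable def aR : AE G eU ⟶ CommRingCat.of k := fstA G eU ≫ εA G eU

instance : IsLocalHom (aR G eU).hom :=
  inferInstanceAs (IsLocalHom ((εA G eU).hom.comp fstDN))

lemma closedPoint_eq : (Spec.map (aR G eU)) (closedPoint k) = closedPoint (AE G eU) :=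
  IsLocalRing.comap_closedPoint (aR G eU).hom

theorem exists_derivation_of_tangent (φ : A G eU ⟶ KE k)
    (h1 : sA G eU ≫ φ = sKE k) (h2 : φ ≫ fstK k = εA G eU) :
    ∃ D : Derivation ℤ (A G eU) (A G eU), ∀ a, (εA G eU).hom (D a) = (φ.hom a).snd := by
  have hcomp : P G eU (φ ≫ tE G eU) ≫ G.s = P G eU (inlA G eU) ≫ G.t := by
    rw [P_s, P_t, ← Category.assoc (sA G eU), h1, sKE_tE]
  obtain ⟨Δs, hΔs⟩ : ∃ Δs : Spec (AE G eU) ⟶ G.R,
    Δs = mul G (P G eU (φ ≫ tE G eU)) (P G eU (inlA G eU)) hcomp := ⟨_, rfl⟩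
  -- pulling back `Δs` along ring maps
  have hpull : ∀ {R' : CommRingCat.{u}} (a : AE G eU ⟶ R')
      (h' : P G eU ((φ ≫ tE G eU) ≫ a) ≫ G.s = P G eU (inlA G eU ≫ a) ≫ G.t),
      Spec.map a ≫ Δs = mul G (P G eU ((φ ≫ tE G eU) ≫ a)) (P G eU (inlA G eU ≫ a)) h' := by
    intro R' a h'
    rw [hΔs, comp_mul G (Spec.map a) _ _ hcomp (by rw [comp_P, comp_P]; exact h')]
    exact mul_congr G (comp_P G eU a _) (comp_P G eU a _) _ _
  have hcl : Δs (closedPoint (AE G eU)) = unitPt G eU := by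
    have ea : (φ ≫ tE G eU) ≫ aR G eU = εA G eU ≫ 𝟙 _ := by
      rw [aR, Category.assoc, ← Category.assoc (tE G eU), tE_fstA, Category.assoc, tA_εA,
        Category.comp_id, h2, Category.comp_id]
    have eb : inlA G eU ≫ aR G eU = εA G eU ≫ 𝟙 _ := by
      rw [aR, ← Category.assoc, inlA_fstA, Category.id_comp, Category.comp_id]
    have hPe : P G eU (εA G eU ≫ 𝟙 _) = e₀ G eU := by
      rw [P_εA_comp, Spec.map_id, Category.id_comp, e₀]
    have h' : P G eU ((φ ≫ tE G eU) ≫ aR G eU) ≫ G.s = P G eU (inlA G eU ≫ aR G eU) ≫ G.t := by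
      rw [ea, eb, hPe, e₀, Category.assoc, Category.assoc, G.e_s, G.e_t]
    have e1 : Spec.map (aR G eU) ≫ Δs = e₀ G eU := by
      rw [hpull (aR G eU) h']
      have h'' : e₀ G eU ≫ G.s = e₀ G eU ≫ G.t := by
        rw [e₀, Category.assoc, Category.assoc, G.e_s, G.e_t]
      rw [mul_congr G (by rw [ea, hPe]) (by rw [eb, hPe]) h' h'']
      apply mul_e
      rw [e₀, Category.assoc, ← Category.assoc G.e, G.e_s, Category.id_comp]
    rw [← closedPoint_eq, ← Scheme.Hom.comp_apply, e1]
    rfl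
  obtain ⟨Δ, _, hΔ⟩ := exists_hom_of_closedPoint Δs (unitPt G eU) hcl
  have hPΔ : P G eU Δ = Δs := hΔ
  -- (P1)
  have hfst : Δ ≫ fstA G eU = 𝟙 _ := by
    apply P_injective G eU
    have ea : (φ ≫ tE G eU) ≫ fstA G eU = εA G eU ≫ tA G eU := by
      rw [Category.assoc, tE_fstA, ← Category.assoc, h2]
    have eb : inlA G eU ≫ fstA G eU = 𝟙 _ := inlA_fstA G eU
    have h' : P G eU ((φ ≫ tE G eU) ≫ fstA G eU) ≫ G.s =
        P G eU (inlA G eU ≫ fstA G eU) ≫ G.t := by
      rw [ea, eb, P_εA_comp, P_t, Category.assoc, Category.assoc, G.e_s, Category.comp_id,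
        Category.comp_id]
    rw [← comp_P, hPΔ, hpull (fstA G eU) h']
    have h'' : P G eU (εA G eU ≫ tA G eU) ≫ G.s = P G eU (𝟙 _) ≫ G.t := by
      rw [← ea, h', eb]
    rw [mul_congr G (by rw [ea]) (by rw [eb]) h' h'']
    apply e_mul
    rw [P_εA_comp, ← Category.assoc (P G eU (𝟙 _)), P_t, Category.comp_id, Category.assoc]
  -- (P2)
  have hmap : Δ ≫ mapε G eU = φ := by
    apply P_injective G eU
    have ea : (φ ≫ tE G eU) ≫ mapε G eU = φ := by
      rw [Category.assoc, tE_mapε, Category.comp_id]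
    have eb : inlA G eU ≫ mapε G eU = εA G eU ≫ sKE k := inlA_mapε G eU
    have h' : P G eU ((φ ≫ tE G eU) ≫ mapε G eU) ≫ G.s =
        P G eU (inlA G eU ≫ mapε G eU) ≫ G.t := by
      rw [ea, eb, P_εA_comp, P_s, Category.assoc, Category.assoc, G.e_t, Category.comp_id, h1]
    rw [← comp_P, hPΔ, hpull (mapε G eU) h']
    have h'' : P G eU φ ≫ G.s = P G eU (εA G eU ≫ sKE k) ≫ G.t := by
      rw [← eb, ← h', ea]
    rw [mul_congr G (by rw [ea]) (by rw [eb]) h' h'']
    apply mul_e
    rw [P_εA_comp, ← Category.assoc (P G eU φ), P_s, h1, Category.assoc]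
  have hfst' : ∀ a, (Δ.hom a).fst = a := fun a => by
    have := congrArg (fun f => f.hom a) hfst
    exact this
  refine ⟨derivOfHom Δ.hom hfst', fun a => ?_⟩
  rw [Cartier.derivOfHom_apply]
  have := congrArg (fun f => (f.hom a).snd) hmap
  exact this

/-- The local ring at the identity of a groupoid scheme on the spectrum of a field of
characteristic zero, with `s` locally of finite type, is a domain. -/
theorem isDomain_A [CharZero k] [LocallyOfFiniteType G.s] : IsDomain (A G eU) := by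
  haveI : IsLocallyNoetherian G.R := LocallyOfFiniteType.isLocallyNoetherian (G.s ≫ eU.hom)
  refine Cartier.isDomain_of_tangent_derivations (A := A G eU) (k := k) (εA G eU).hom
    (sA G eU).hom (εA_sA_apply G eU) fun v => ?_
  refine exists_derivation_of_tangent G eU (CommRingCat.ofHom
    (tangentHom (A := A G eU) (k := k) (εA G eU).hom (sA G eU).hom (εA_sA_apply G eU) v)) ?_ ?_
  · apply CommRingCat.hom_ext
    exact Cartier.tangentHom_comp (A := A G eU) (k := k) (εA G eU).hom (sA G eU).hom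
      (εA_sA_apply G eU) v
  · apply CommRingCat.hom_ext
    ext a
    rfl

end Groth.Agent.Lib.Helper19.Grpd
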